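import Cfsg.Agent.Lib.Helper80.ThreeDeg.LemmaBB
import Cfsg.Agent.Lib.Helper75.Clifford

/-!
# Three character degrees: Lemma B, part C (helper80)

Step (3): the product `χ ψ` (degrees `m`, `n`) is never of type `m`, when every nontrivial normal
subgroup contains the commutator subgroup.
-/

set_option autoImplicit false
set_option linter.unusedSectionVars false

namespace Cfsg.Agent.Lib.Helper80.ThreeDeg

open Cfsg
open Cfsg.Agent.Lib
open Cfsg.Agent.Lib.Helper78
open scoped ComplexConjugate commutatorElement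

universe u

section Faithful

variable {G : Type u} [Group G] [Fintype G]

/-- an irreducible character trivial on the commutator subgroup is linear -/
theorem charDegree_eq_one_of_commutator_le (χ : IrrCharacter G)
    (h : ∀ x ∈ commutator G, (χ : G → ℂ) x = (χ : G → ℂ) 1) : charDegree (χ : G → ℂ) = 1 := by
  have hZ : Helper77.irrCenter χ = ⊤ := by
    rw [eq_top_iff]
    intro g _
    rw [Helper77.mem_irrCenter_iff_commutator]
    intro k
    rw [Helper77.mem_irrKer]
    apply h
    rw [commutator_def]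
    exact Subgroup.commutator_mem_commutator (Subgroup.mem_top g) (Subgroup.mem_top k)
  have h1 := Helper75.apply_one_eq_one_of_irrCenter_eq_top χ hZ
  apply Helper80.charDegree_natCast
  rw [h1]; simp

/-- nonlinear irreducible characters are faithful -/
theorem eq_one_of_apply_eq (hmin : ∀ L : Subgroup G, L.Normal → L ≠ ⊥ → commutator G ≤ L)
    (χ : IrrCharacter G) (hχ : charDegree (χ : G → ℂ) ≠ 1) (g : G)
    (hg : (χ : G → ℂ) g = (χ : G → ℂ) 1) : g = 1 := by
  have hn : (Helper77.irrKer χ).Normal := by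
    unfold Helper77.irrKer
    infer_instance
  by_contra hg1
  have hne : Helper77.irrKer χ ≠ ⊥ := by
    intro hbot
    have : g ∈ Helper77.irrKer χ := (Helper77.mem_irrKer χ g).mpr hg
    rw [hbot, Subgroup.mem_bot] at this
    exact hg1 this
  apply hχ
  apply charDegree_eq_one_of_commutator_le
  intro x hx
  exact (Helper77.mem_irrKer χ x).mp (hmin _ hn hne hx)

/-- an irreducible character vanishing on the nonidentity elements of the commutator subgroup
is linear -/
theorem charDegree_eq_one_of_vanishing (χ : IrrCharacter G)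
    (h : ∀ x ∈ commutator G, x ≠ 1 → (χ : G → ℂ) x = 0) : charDegree (χ : G → ℂ) = 1 := by
  classical
  set A : Subgroup G := commutator G with hA
  let _ : Fintype A := Fintype.ofFinite A
  set θ : A → ℂ := fun _ => 1 with hθdef
  have hθ : IsIrrCharacter A θ := isIrrCharacter_one
  have hconst : classInner (fun a : A => (χ : G → ℂ) a) θ ≠ 0 := by
    unfold classInner
    rw [Finset.sum_eq_single (1 : A)]
    · simp only [Subgroup.coe_one, hθdef, map_one, mul_one]
      apply mul_ne_zero
      · apply inv_ne_zero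
        exact_mod_cast (Nat.card_pos (α := A)).ne'
      · exact IsIrrCharacter.apply_one_ne_zero χ.2
    · intro b _ hb
      have : ((b : A) : G) ≠ 1 := fun h1 => hb (Subtype.ext h1)
      show (χ : G → ℂ) (b : G) * _ = 0
      rw [h b b.2 this, zero_mul]
    · intro h1; exact absurd (Finset.mem_univ _) h1
  have hcl := Helper75.clifford_finset A χ.2 hθ hconst
  have horb : Helper75.conjOrbit A θ = {⟨θ, hθ⟩} := by
    ext φ
    rw [Helper75.mem_conjOrbit, Finset.mem_singleton]
    constructor
    · rintro ⟨g, hg⟩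
      apply Subtype.ext
      rw [← hg]
      rfl
    · rintro rfl
      exact ⟨1, rfl⟩
  rw [horb, Finset.sum_singleton] at hcl
  apply charDegree_eq_one_of_commutator_le
  intro x hx
  have h1 := congrFun hcl ⟨x, hx⟩
  have h2 := congrFun hcl 1
  simp only [Pi.smul_apply, hθdef, smul_eq_mul, mul_one, Subgroup.coe_one] at h1 h2
  rw [h1, h2]

end Faithful

section StepThree

variable {G : Type u} [Group G] [Fintype G] (m n : ℕ)

/-- **Step (3)**: `χ ψ` is not of type `m`. -/
theorem step_three (hm : 1 < m) (hmn : m < n) (hcop : Nat.Coprime m n)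
    (hcd : ∀ χ : IrrCharacter G, charDegree (χ : G → ℂ) = 1 ∨
      charDegree (χ : G → ℂ) = m ∨ charDegree (χ : G → ℂ) = n)
    (hmin : ∀ L : Subgroup G, L.Normal → L ≠ ⊥ → commutator G ≤ L)
    (χ ψ : IrrCharacter G) (hχ : charDegree (χ : G → ℂ) = m) (hψ : charDegree (ψ : G → ℂ) = n)
    (htype : ∀ φ : IrrCharacter G, charDegree (φ : G → ℂ) ≠ m →
        classInner ((χ : G → ℂ) * (ψ : G → ℂ)) (φ : G → ℂ) = 0) : False := by
  classical
  have hΘ : IsCharacter G ((χ : G → ℂ) * (ψ : G → ℂ)) :=
    Helper80.isCharacter_mul (IsIrrCharacter.isCharacter χ.2) (IsIrrCharacter.isCharacter ψ.2)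
  obtain ⟨a, ha, hsum, hdeg⟩ := exists_mult hΘ
  -- constituents have degree `m`
  have hdegm : ∀ φ : IrrCharacter G, a φ ≠ 0 → charDegree (φ : G → ℂ) = m := by
    intro φ hφ
    by_contra hne
    apply hφ
    have := htype φ hne
    rw [ha φ] at this
    exact_mod_cast this
  -- constituents are twists of `χ`
  have htw : ∀ φ : IrrCharacter G, a φ ≠ 0 →
      ∃ mu : G →* ℂˣ, (φ : G → ℂ) = (χ : G → ℂ) * Helper80.homFun mu := by
    intro φ hφ
    by_contra hcon
    push Not at hcon
    have h2 := step_two m n hm hmn hcop hcd χ φ hχ (hdegm φ hφ) hcon ψ (by rw [hψ]; omega)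
    -- `⟨conj χ φ, ψ⟩ = conj ⟨χ ψ, φ⟩`
    have h3 : classInner ((χ : G → ℂ) * (ψ : G → ℂ)) (φ : G → ℂ) =
        conj (classInner (((cjIrr χ : IrrCharacter G) : G → ℂ) * (φ : G → ℂ)) (ψ : G → ℂ)) := by
      rw [classInner_conj_symm, mul_comm (χ : G → ℂ), classInner_mul_shift]
      rfl
    rw [h2, map_zero, ha φ] at h3
    apply hφ
    exact_mod_cast h3
  -- the sum of the multiplicities is `n`
  have hsumA : ∑ φ : IrrCharacter G, a φ = n := by
    rw [charDegree_mul_irr, hχ, hψ] at hdeg
    have h1 : ∑ φ : IrrCharacter G, a φ * charDegree (φ : G → ℂ) =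
        ∑ φ : IrrCharacter G, a φ * m := by
      apply Finset.sum_congr rfl
      intro φ _
      by_cases hφ : a φ = 0
      · rw [hφ, zero_mul, zero_mul]
      · rw [hdegm φ hφ]
    rw [h1, ← Finset.sum_mul, mul_comm m n] at hdeg
    exact (Nat.eq_of_mul_eq_mul_right (by omega) hdeg).symm
  -- evaluation on the commutator subgroup
  have hval : ∀ x ∈ commutator G, (χ : G → ℂ) x * (ψ : G → ℂ) x = (n : ℂ) * (χ : G → ℂ) x := by
    intro x hx
    have h1 := congrFun hsum x
    rw [Pi.mul_apply, Finset.sum_apply] at h1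
    rw [h1]
    have h2 : ∀ φ : IrrCharacter G, ((a φ : ℂ) • (φ : G → ℂ)) x = (a φ : ℂ) * (χ : G → ℂ) x := by
      intro φ
      rw [Pi.smul_apply, smul_eq_mul]
      by_cases hφ : a φ = 0
      · rw [hφ]; simp
      · obtain ⟨mu, hmu⟩ := htw φ hφ
        rw [hmu, Pi.mul_apply, homFun_eq_one_of_mem_commutator mu x hx, mul_one]
    rw [Finset.sum_congr rfl (fun φ _ => h2 φ), ← Finset.sum_mul, ← hsumA]
    push_cast
    rfl
  -- `χ` vanishes on `G' ∖ 1`
  have hvan : ∀ x ∈ commutator G, x ≠ 1 → (χ : G → ℂ) x = 0 := by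
    intro x hx hx1
    have h1 := hval x hx
    have h2 : (χ : G → ℂ) x * ((ψ : G → ℂ) x - (n : ℂ)) = 0 := by
      rw [mul_sub, h1]; ring
    rcases mul_eq_zero.mp h2 with h3 | h3
    · exact h3
    · exfalso
      apply hx1
      apply eq_one_of_apply_eq hmin ψ (by rw [hψ]; omega) x
      rw [IsCharacter.apply_one_eq_charDegree (IsIrrCharacter.isCharacter ψ.2), hψ]
      exact sub_eq_zero.mp h3
  have := charDegree_eq_one_of_vanishing χ hvan
  omega

end StepThree

end Cfsg.Agent.Lib.Helper80.ThreeDeg
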