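import Mathlib
import Cfsg.Agent.Lib.Helper80.TwoDeg2
import Cfsg.Agent.Lib.Helper80.ItoMichler

/-!
# Two character degrees: `derivedSeries G 2 = ⊥` (helper80)

Convenient forms of Isaacs 12.6 (`Helper80.derivedSeries_two_eq_bot_of_two_degrees`) that do not
ask for the existence of a character of the second degree, and transport of derived series
from a subgroup.
-/

set_option autoImplicit false

namespace Cfsg.Agent.Lib.Helper80.ThreeDeg

open Cfsg
open Cfsg.Agent.Lib
open scoped commutatorElement

universe u

section

variable {G : Type u} [Group G]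

theorem derivedSeries_one_eq_commutator : derivedSeries G 1 = commutator G := by
  rw [derivedSeries_succ, derivedSeries_zero, commutator_def]

/-- `G'` abelian gives `G'' = 1`. -/
theorem derivedSeries_two_eq_bot_of_comm
    (h : ∀ a ∈ commutator G, ∀ b ∈ commutator G, a * b = b * a) : derivedSeries G 2 = ⊥ := by
  rw [derivedSeries_succ, derivedSeries_one_eq_commutator, Subgroup.commutator_eq_bot_iff_le_centralizer]
  intro a ha
  rw [Subgroup.mem_centralizer_iff]
  intro b hb
  exact h b hb a ha

theorem derivedSeries_three_eq_bot_of_two (h : derivedSeries G 2 = ⊥) : derivedSeries G 3 = ⊥ := by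
  rw [derivedSeries_succ, h]
  exact Subgroup.commutator_bot_left ⊥

/-- transport of the derived series along the inclusion of a subgroup -/
theorem derivedSeries_le_map_succ (H : Subgroup G) (i j : ℕ)
    (h : derivedSeries G j ≤ (derivedSeries H i).map H.subtype) :
    derivedSeries G (j + 1) ≤ (derivedSeries H (i + 1)).map H.subtype := by
  rw [derivedSeries_succ, derivedSeries_succ, Subgroup.map_commutator]
  exact Subgroup.commutator_mono h h

theorem eq_bot_of_le_map_bot (H : Subgroup G) (i j : ℕ)
    (h : derivedSeries G j ≤ (derivedSeries H i).map H.subtype) (hi : derivedSeries H i = ⊥) :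
    derivedSeries G j = ⊥ := by
  rw [hi, Subgroup.map_bot] at h
  exact le_bot_iff.mp h

end

section

variable {G : Type u} [Group G] [Fintype G]

/-- all character degrees in `{1, f}` gives `G'' = 1`. -/
theorem derivedSeries_two_eq_bot_of_cd_sub (f : ℕ)
    (hcd : ∀ χ : IrrCharacter G, charDegree (χ : G → ℂ) = 1 ∨ charDegree (χ : G → ℂ) = f) :
    derivedSeries G 2 = ⊥ := by
  by_cases h : (∃ χ : IrrCharacter G, charDegree (χ : G → ℂ) = f) ∧ f ≠ 1
  · exact derivedSeries_two_eq_bot_of_comm
      (Helper80.derivedSeries_two_eq_bot_of_two_degrees f hcd h.1 h.2)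
  · have hall : ∀ χ : IrrCharacter G, charDegree (χ : G → ℂ) = 1 := by
      intro χ
      rcases hcd χ with h1 | h1
      · exact h1
      · by_contra hne
        exact h ⟨⟨χ, h1⟩, fun hf => hne (by rw [h1, hf])⟩
    have hcomm := Helper80.commutative_of_forall_charDegree_eq_one hall
    apply derivedSeries_two_eq_bot_of_comm
    intro a _ b _
    exact hcomm a b

end

end Cfsg.Agent.Lib.Helper80.ThreeDeg
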