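import Cfsg.Agent.Lib.Helper80.ThreeDeg.LemmaB
import Cfsg.Agent.Lib.Helper80.ThreeDeg.TwoDegBot
import Cfsg.Agent.Lib.Helper96.ThreeDegCopF
import Cfsg.Agent.Lib.Helper80.DG.PCase
import Cfsg.Agent.Lib.Helper80.DG.FrobC
import Cfsg.Agent.Lib.Helper73.DGDich
import Cfsg.Agent.Lib.Helper79.Integrality

/-!
# Three character degrees: the coprime case (helper80)

`cd(G) = {1, m, n}` with `gcd(m, n) = 1` forces `G''' = 1`.
-/

set_option autoImplicit false
set_option linter.unusedSectionVars false

namespace Cfsg.Agent.Lib.Helper80.ThreeDeg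

open Cfsg
open Cfsg.Agent.Lib
open scoped commutatorElement

universe u

section Glue

variable {G : Type u} [Group G] [Finite G]

/-- a maximal normal subgroup with nonabelian quotient -/
theorem exists_max_nonabelian_quotient
    (hnc : ∃ a b : G, a * b ≠ b * a) :
    ∃ K : Subgroup G, K.Normal ∧ ¬ commutator G ≤ K ∧
      ∀ L : Subgroup G, L.Normal → K < L → commutator G ≤ L := by
  have hbot : (fun K : Subgroup G => K.Normal ∧ ¬ commutator G ≤ K) ⊥ := by
    refine ⟨inferInstance, ?_⟩
    intro h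
    obtain ⟨a, b, hab⟩ := hnc
    apply hab
    have h1 : a * b * a⁻¹ * b⁻¹ ∈ commutator G := Helper73.DGDich.comm_mem a b
    have h2 := h h1
    rw [Subgroup.mem_bot] at h2
    calc a * b = (a * b * a⁻¹ * b⁻¹) * (b * a) := by group
      _ = b * a := by rw [h2, one_mul]
  obtain ⟨K, -, hK⟩ := Finite.exists_le_maximal
    (p := fun K : Subgroup G => K.Normal ∧ ¬ commutator G ≤ K) (a := ⊥) hbot
  refine ⟨K, hK.prop.1, hK.prop.2, ?_⟩
  intro L hL hKL
  by_contra hcon
  exact absurd (hK.le_of_ge ⟨hL, hcon⟩ hKL.le) (not_le_of_gt hKL)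

end Glue

section Core

variable {G : Type u} [Group G] [Fintype G]

/-- The case where the quotient `G/K` has only the degrees `1, f`. -/
theorem three_deg_coprime_core (f f' : ℕ) (hf : 1 < f) (hf' : 1 < f') (hcop : Nat.Coprime f f')
    (hcd : ∀ χ : IrrCharacter G, charDegree (χ : G → ℂ) = 1 ∨
      charDegree (χ : G → ℂ) = f ∨ charDegree (χ : G → ℂ) = f')
    (hexf : ∃ χ : IrrCharacter G, charDegree (χ : G → ℂ) = f)
    (hexf' : ∃ χ : IrrCharacter G, charDegree (χ : G → ℂ) = f')
    (K : Subgroup G) [hKn : K.Normal]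
    (hnonab : ∃ a b : G ⧸ K, a * b ≠ b * a)
    (hmin : ∀ L : Subgroup (G ⧸ K), L.Normal → L ≠ ⊥ → commutator (G ⧸ K) ≤ L)
    (hQ : ∀ ψ : IrrCharacter (G ⧸ K), charDegree (ψ : G ⧸ K → ℂ) = 1 ∨
      charDegree (ψ : G ⧸ K → ℂ) = f) :
    derivedSeries G 3 = ⊥ := by
  classical
  let _ : Fintype (G ⧸ K) := Fintype.ofFinite _
  have hsolv : Group.IsSolvable (G ⧸ K) :=
    (Group.isSolvable_def _).mpr ⟨2, derivedSeries_two_eq_bot_of_cd_sub f hQ⟩
  rcases Helper73.DGDich.dichotomy_of_commutator_minimal hnonab hmin with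
    ⟨p, hp, hpQ⟩ | ⟨hA, ⟨q, hq, hqA⟩, hfpfQ⟩
  · -- the p-group case: impossible
    exfalso
    have : Fact p.Prime := ⟨hp⟩
    -- a nonlinear character of `G/K`
    have hexQ : ∃ ψ : IrrCharacter (G ⧸ K), charDegree (ψ : G ⧸ K → ℂ) = f := by
      by_contra hno
      push Not at hno
      have hall : ∀ ψ : IrrCharacter (G ⧸ K), charDegree (ψ : G ⧸ K → ℂ) = 1 := by
        intro ψ
        rcases hQ ψ with h | h
        · exact h
        · exact absurd h (hno ψ)
      obtain ⟨a, b, hab⟩ := hnonab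
      exact hab (Helper80.commutative_of_forall_charDegree_eq_one hall a b)
    obtain ⟨ψ, hψ⟩ := hexQ
    -- `f` is a power of `p`
    have hpf : p ∣ f := by
      have h1 : charDegree (ψ : G ⧸ K → ℂ) ∣ Nat.card (G ⧸ K) :=
        Helper79.irr_charDegree_dvd_card ψ
      obtain ⟨k, hk⟩ := IsPGroup.iff_card.mp hpQ
      rw [hψ, hk] at h1
      obtain ⟨j, -, hj⟩ := (Nat.dvd_prime_pow hp).mp h1
      rcases Nat.eq_zero_or_pos j with h0 | hpos
      · rw [h0, pow_zero] at hj; omega
      · rw [hj]; exact dvd_pow_self p hpos.ne'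
    have hpf' : ¬ p ∣ f' := by
      intro h
      have := Nat.dvd_gcd hpf h
      rw [Nat.Coprime.gcd_eq_one hcop] at this
      exact hp.one_lt.ne' (Nat.dvd_one.mp this)
    obtain ⟨χ, hχ⟩ := hexf'
    obtain ⟨ξ, hpξ, hχξ⟩ := Helper80.DG.pgroup_case K p hpQ hnonab χ (by rw [hχ]; exact hpf')
    rw [hχ] at hχξ
    rcases hcd ξ with h | h | h
    · rw [h] at hpξ; exact hp.one_lt.ne' (Nat.dvd_one.mp hpξ)
    · rw [h] at hχξ
      have := Nat.dvd_gcd hχξ (dvd_refl f')
      rw [Nat.Coprime.gcd_eq_one hcop] at this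
      have := Nat.dvd_one.mp this
      omega
    · rw [h] at hpξ; exact hpf' hpξ
  · -- the Frobenius case
    set A : Subgroup (G ⧸ K) := commutator (G ⧸ K) with hAdef
    set N : Subgroup G := A.comap (QuotientGroup.mk' K) with hNdef
    have hNn : N.Normal := Subgroup.Normal.comap inferInstance _
    let _ : Fintype N := Fintype.ofFinite N
    have hmemN : ∀ g : G, g ∈ N ↔ (g : G ⧸ K) ∈ A := fun g => Iff.rfl
    have hKN : K ≤ N := by
      intro k hk
      rw [hmemN, (QuotientGroup.eq_one_iff k).mpr hk]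
      exact A.one_mem
    set K' : Subgroup N := K.subgroupOf N with hK'def
    have hmemK' : ∀ n : N, n ∈ K' ↔ (n : G) ∈ K := fun n => Subgroup.mem_subgroupOf
    have hKinv : ∀ (g : G) (n : N), n ∈ K' → Helper80.DG.cj N g n ∈ K' := by
      intro g n hn
      rw [hmemK'] at hn ⊢
      exact hKn.conj_mem _ hn g
    have habN : ∀ a b : N, a * b * a⁻¹ * b⁻¹ ∈ K' := by
      intro a b
      rw [hmemK']
      simp only [Subgroup.coe_mul, Subgroup.coe_inv]
      rw [← QuotientGroup.eq_one_iff]
      simp only [QuotientGroup.mk_mul, QuotientGroup.mk_inv]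
      rw [hA _ ((hmemN a).mp a.2) _ ((hmemN b).mp b.2)]
      group
    have habG : ∀ x y : G, x * y * x⁻¹ * y⁻¹ ∈ N := by
      intro x y
      rw [hmemN]
      simp only [QuotientGroup.mk_mul, QuotientGroup.mk_inv]
      exact Helper73.DGDich.comm_mem _ _
    have hfpf : ∀ g : G, g ∉ N → ∀ n : N, Helper80.DG.cj N g n * n⁻¹ ∈ K' → n ∈ K' := by
      intro g hg n hn
      rw [hmemK'] at hn ⊢
      simp only [Subgroup.coe_mul, Subgroup.coe_inv, Helper80.DG.cj_coe] at hn
      rw [← QuotientGroup.eq_one_iff] at hn ⊢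
      simp only [QuotientGroup.mk_mul, QuotientGroup.mk_inv] at hn
      apply hfpfQ (g : G ⧸ K) (fun h => hg ((hmemN g).mpr h)) _ ((hmemN n).mp n.2)
      calc (g : G ⧸ K) * (n : G ⧸ K)
          = ((g : G ⧸ K) * (n : G ⧸ K) * (g : G ⧸ K)⁻¹ * (n : G ⧸ K)⁻¹) *
            ((n : G ⧸ K) * (g : G ⧸ K)) := by group
        _ = (n : G ⧸ K) * (g : G ⧸ K) := by rw [hn, one_mul]
    have hAne : A ≠ ⊥ := by
      intro hbot
      obtain ⟨a, b, hab⟩ := hnonab
      apply hab
      have h1 : a * b * a⁻¹ * b⁻¹ ∈ A := Helper73.DGDich.comm_mem a b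
      rw [hbot, Subgroup.mem_bot] at h1
      calc a * b = (a * b * a⁻¹ * b⁻¹) * (b * a) := by group
        _ = b * a := by rw [h1, one_mul]
    have hidx : ∃ a : ℕ, 0 < a ∧ K'.index = q ^ a := by
      have : Fact q.Prime := ⟨hq⟩
      obtain ⟨a, ha⟩ := IsPGroup.iff_card.mp hqA
      have hcard : K'.index = Nat.card A := by
        have h1 : K.relIndex N * N.index = K.index := Subgroup.relIndex_mul_index hKN
        have h2 : N.index = A.index :=
          Subgroup.index_comap_of_surjective A (QuotientGroup.mk'_surjective K)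
        have h3 : K.index = Nat.card (G ⧸ K) := Subgroup.index_eq_card K
        have h4 : A.index * Nat.card A = Nat.card (G ⧸ K) := Subgroup.index_mul_card A
        have h5 : K.relIndex N * A.index = Nat.card A * A.index := by
          calc K.relIndex N * A.index = K.relIndex N * N.index := by rw [h2]
            _ = K.index := h1
            _ = Nat.card (G ⧸ K) := h3
            _ = A.index * Nat.card A := h4.symm
            _ = Nat.card A * A.index := mul_comm _ _
        have h6 : 0 < A.index := Nat.pos_of_ne_zero Subgroup.index_ne_zero_of_finite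
        exact Nat.eq_of_mul_eq_mul_right h6 h5
      refine ⟨a, ?_, by rw [hcard, ha]⟩
      rcases Nat.eq_zero_or_pos a with h0 | hpos
      · exfalso
        apply hAne
        rw [h0, pow_zero] at ha
        exact Subgroup.card_eq_one.mp ha
      · exact hpos
    have hNidx : N.index ≠ 1 := by
      intro h1
      have h2 : N = ⊤ := Subgroup.index_eq_one.mp h1
      have : Nontrivial (G ⧸ K) := by
        obtain ⟨a, b, hab⟩ := hnonab
        exact ⟨⟨a * b, b * a, hab⟩⟩
      have h3 : A < ⊤ := Group.IsSolvable.commutator_lt_top_of_nontrivial (G ⧸ K)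
      apply h3.ne
      rw [eq_top_iff]
      intro x _
      obtain ⟨g, rfl⟩ := QuotientGroup.mk_surjective x
      have : g ∈ N := by rw [h2]; exact Subgroup.mem_top g
      exact (hmemN g).mp this
    obtain ⟨c, hc⟩ := Helper96.ThreeDeg.frob_three_deg_coprime N K' hKinv habN habG hfpf q hq hidx hNidx f f' hf hf'
      hcop hcd hexf hexf'
    -- `N'' = 1`, `G' ≤ N`
    have hN2 : derivedSeries N 2 = ⊥ := derivedSeries_two_eq_bot_of_cd_sub c hc
    have h1 : derivedSeries G 1 ≤ (derivedSeries N 0).map N.subtype := by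
      rw [derivedSeries_one_eq_commutator, derivedSeries_zero, ← MonoidHom.range_eq_map,
        Subgroup.range_subtype, commutator_def, Subgroup.commutator_le]
      intro x _ y _
      have := habG x y
      rw [commutatorElement_def]
      exact this
    have h2 := derivedSeries_le_map_succ N 0 1 h1
    have h3 := derivedSeries_le_map_succ N 1 2 h2
    exact eq_bot_of_le_map_bot N 2 3 h3 hN2

/-- **The coprime case.** -/
theorem three_deg_coprime (m n : ℕ) (hm : 1 < m) (hmn : m < n) (hcop : Nat.Coprime m n)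
    (hcd : ∀ χ : IrrCharacter G, charDegree (χ : G → ℂ) = 1 ∨
      charDegree (χ : G → ℂ) = m ∨ charDegree (χ : G → ℂ) = n)
    (hexm : ∃ χ : IrrCharacter G, charDegree (χ : G → ℂ) = m)
    (hexn : ∃ χ : IrrCharacter G, charDegree (χ : G → ℂ) = n) :
    derivedSeries G 3 = ⊥ := by
  classical
  have hnc : ∃ a b : G, a * b ≠ b * a := by
    by_contra hall
    push Not at hall
    obtain ⟨χ, hχ⟩ := hexm
    have := Helper80.charDegree_eq_one_of_comm hall χ
    omega
  obtain ⟨K, hKn, hKnon, hKmax⟩ := exists_max_nonabelian_quotient hnc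
  let _ : Fintype (G ⧸ K) := Fintype.ofFinite _
  have hnonab : ∃ a b : G ⧸ K, a * b ≠ b * a := by
    by_contra hall
    push Not at hall
    apply hKnon
    rw [commutator_def, Subgroup.commutator_le]
    intro x _ y _
    rw [← QuotientGroup.eq_one_iff, commutatorElement_def]
    simp only [QuotientGroup.mk_mul, QuotientGroup.mk_inv]
    rw [hall (x : G ⧸ K) (y : G ⧸ K)]
    group
  have hmin : ∀ L : Subgroup (G ⧸ K), L.Normal → L ≠ ⊥ → commutator (G ⧸ K) ≤ L := by
    intro L hL hLne
    have hKL : K < L.comap (QuotientGroup.mk' K) := by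
      refine lt_of_le_of_ne ?_ ?_
      · intro k hk
        rw [Subgroup.mem_comap, QuotientGroup.mk'_apply, (QuotientGroup.eq_one_iff k).mpr hk]
        exact L.one_mem
      · intro heq
        apply hLne
        rw [Subgroup.eq_bot_iff_forall]
        intro x hx
        obtain ⟨g, rfl⟩ := QuotientGroup.mk_surjective x
        have hg : g ∈ L.comap (QuotientGroup.mk' K) := hx
        rw [← heq] at hg
        exact (QuotientGroup.eq_one_iff g).mpr hg
    have h1 := hKmax _ (hL.comap _) hKL
    intro x hx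
    rw [commutator_def, ← Subgroup.map_top_of_surjective (QuotientGroup.mk' K)
      (QuotientGroup.mk'_surjective K), ← Subgroup.map_commutator, ← commutator_def] at hx
    obtain ⟨g, hg, rfl⟩ := hx
    exact h1 hg
  have hcdQ : ∀ ψ : IrrCharacter (G ⧸ K), charDegree (ψ : G ⧸ K → ℂ) = 1 ∨
      charDegree (ψ : G ⧸ K → ℂ) = m ∨ charDegree (ψ : G ⧸ K → ℂ) = n := by
    intro ψ
    rw [← Helper80.charDegree_inflate K ψ]
    exact hcd _
  by_cases hboth : (∃ ψ : IrrCharacter (G ⧸ K), charDegree (ψ : G ⧸ K → ℂ) = m) ∧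
      (∃ ψ : IrrCharacter (G ⧸ K), charDegree (ψ : G ⧸ K → ℂ) = n)
  · exact (lemmaB m n hm hmn hcop hcdQ hboth.1 hboth.2 hmin).elim
  · rw [not_and_or] at hboth
    rcases hboth with hno | hno
    · push Not at hno
      have hQ : ∀ ψ : IrrCharacter (G ⧸ K), charDegree (ψ : G ⧸ K → ℂ) = 1 ∨
          charDegree (ψ : G ⧸ K → ℂ) = n := by
        intro ψ
        rcases hcdQ ψ with h | h | h
        · exact Or.inl h
        · exact absurd h (hno ψ)
        · exact Or.inr h
      exact three_deg_coprime_core n m (by omega) hm hcop.symm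
        (fun χ => by rcases hcd χ with h | h | h <;> tauto) hexn hexm K hnonab hmin hQ
    · push Not at hno
      have hQ : ∀ ψ : IrrCharacter (G ⧸ K), charDegree (ψ : G ⧸ K → ℂ) = 1 ∨
          charDegree (ψ : G ⧸ K → ℂ) = m := by
        intro ψ
        rcases hcdQ ψ with h | h | h
        · exact Or.inl h
        · exact Or.inr h
        · exact absurd h (hno ψ)
      exact three_deg_coprime_core m n hm (by omega) hcop hcd hexm hexn K hnonab hmin hQ

end Core

end Cfsg.Agent.Lib.Helper80.ThreeDeg
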