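import Cfsg.Agent.Lib.Helper80.ThreeDeg.LemmaBC

/-!
# Three character degrees: Lemma B (helper80)

If every nontrivial normal subgroup of `G` contains the commutator subgroup, then the set of
irreducible character degrees of `G` is not `{1, m, n}` with `1 < m < n` coprime.
-/

set_option autoImplicit false
set_option linter.unusedSectionVars false

namespace Cfsg.Agent.Lib.Helper80.ThreeDeg

open Cfsg
open Cfsg.Agent.Lib
open Cfsg.Agent.Lib.Helper78
open scoped ComplexConjugate commutatorElement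

universe u

section Closure

variable {G : Type u} [Group G] [Fintype G] (m n : ℕ)

/-- **Step (4a)**: for `φ` of degree `≠ n` and `ψ` of degree `n`, all constituents of `φ ψ` have
degree `n`. -/
theorem step_star (hm : 1 < m) (hmn : m < n) (hcop : Nat.Coprime m n)
    (hcd : ∀ χ : IrrCharacter G, charDegree (χ : G → ℂ) = 1 ∨
      charDegree (χ : G → ℂ) = m ∨ charDegree (χ : G → ℂ) = n)
    (hmin : ∀ L : Subgroup G, L.Normal → L ≠ ⊥ → commutator G ≤ L)
    (φ ψ φ' : IrrCharacter G) (hφ : charDegree (φ : G → ℂ) ≠ n)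
    (hψ : charDegree (ψ : G → ℂ) = n) (hφ' : charDegree (φ' : G → ℂ) ≠ n) :
    classInner ((φ : G → ℂ) * (ψ : G → ℂ)) (φ' : G → ℂ) = 0 := by
  rcases hcd φ with h | h | h
  · obtain ⟨mu, hmu⟩ := exists_hom_of_charDegree_eq_one φ h
    have h1 : (φ : G → ℂ) * (ψ : G → ℂ) = ((twist ψ mu : IrrCharacter G) : G → ℂ) := by
      rw [twist_coe, hmu, mul_comm]
    rw [h1]
    apply classInner_irr_ne (twist ψ mu).2 φ'.2
    intro heq
    apply hφ'
    rw [← heq, charDegree_twist, hψ]
  · rcases step_one m n hm hmn hcop hcd φ ψ h hψ with h1 | h1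
    · exact (step_three m n hm hmn hcop hcd hmin φ ψ h hψ h1).elim
    · exact h1 φ' hφ'
  · exact absurd h hφ

/-- the weighted sum of the characters of degree `n` -/
noncomputable def rhoY : G → ℂ :=
  ∑ ψ : IrrCharacter G, (if charDegree (ψ : G → ℂ) = n then (n : ℂ) else 0) • (ψ : G → ℂ)

theorem isClassFunction_rhoY : IsClassFunction G (rhoY (G := G) n) := by
  unfold rhoY
  apply isClassFunction_sum
  intro ψ _
  exact isClassFunction_smul _ (isClassFunction_irr ψ)

theorem classInner_rhoY (ξ : IrrCharacter G) :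
    classInner (rhoY (G := G) n) (ξ : G → ℂ) =
      if charDegree (ξ : G → ℂ) = n then (n : ℂ) else 0 := by
  unfold rhoY
  exact classInner_nat_combination _ ξ

/-- **Step (4b)**: `φ ρ_Y = φ(1) ρ_Y` for `φ` of degree `≠ n`. -/
theorem mul_rhoY (hm : 1 < m) (hmn : m < n) (hcop : Nat.Coprime m n)
    (hcd : ∀ χ : IrrCharacter G, charDegree (χ : G → ℂ) = 1 ∨
      charDegree (χ : G → ℂ) = m ∨ charDegree (χ : G → ℂ) = n)
    (hmin : ∀ L : Subgroup G, L.Normal → L ≠ ⊥ → commutator G ≤ L)
    (φ : IrrCharacter G) (hφ : charDegree (φ : G → ℂ) ≠ n) :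
    (φ : G → ℂ) * rhoY (G := G) n = (charDegree (φ : G → ℂ) : ℂ) • rhoY (G := G) n := by
  classical
  rw [← sub_eq_zero]
  have hclφ : IsClassFunction G (φ : G → ℂ) := isClassFunction_irr φ
  have hclρ := isClassFunction_rhoY (G := G) n
  have hclmul : IsClassFunction G ((φ : G → ℂ) * rhoY (G := G) n) := by
    intro g k
    rw [Pi.mul_apply, Pi.mul_apply, hclφ g k, hclρ g k]
  apply eq_zero_of_forall_classInner_irr_eq_zero
    (isClassFunction_sub hclmul (isClassFunction_smul _ hclρ))
  intro ξ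
  have hsub : classInner ((φ : G → ℂ) * rhoY (G := G) n -
      (charDegree (φ : G → ℂ) : ℂ) • rhoY (G := G) n) (ξ : G → ℂ) =
      classInner ((φ : G → ℂ) * rhoY (G := G) n) (ξ : G → ℂ) -
      (charDegree (φ : G → ℂ) : ℂ) * classInner (rhoY (G := G) n) (ξ : G → ℂ) := by
    rw [sub_eq_add_neg, classInner_add_left, ← neg_smul, classInner_smul_left]
    ring
  rw [hsub, classInner_rhoY, sub_eq_zero]
  -- expand the product
  have hexp : (φ : G → ℂ) * rhoY (G := G) n =
      ∑ ψ : IrrCharacter G, (if charDegree (ψ : G → ℂ) = n then (n : ℂ) else 0) •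
        ((φ : G → ℂ) * (ψ : G → ℂ)) := by
    unfold rhoY
    rw [Finset.mul_sum]
    apply Finset.sum_congr rfl
    intro ψ _
    rw [mul_smul_comm]
  rw [hexp, classInner_sum_left]
  simp only [classInner_smul_left]
  by_cases hξ : charDegree (ξ : G → ℂ) = n
  · rw [if_pos hξ]
    -- the character `conj φ · ξ`
    have hΘ : IsCharacter G (((cjIrr φ : IrrCharacter G) : G → ℂ) * (ξ : G → ℂ)) :=
      Helper80.isCharacter_mul (IsIrrCharacter.isCharacter (cjIrr φ).2)
        (IsIrrCharacter.isCharacter ξ.2)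
    obtain ⟨b, hb, -, hdeg⟩ := exists_mult hΘ
    rw [charDegree_mul_irr, charDegree_cjIrr, hξ] at hdeg
    have hb0 : ∀ ψ : IrrCharacter G, charDegree (ψ : G → ℂ) ≠ n → b ψ = 0 := by
      intro ψ hψ
      have h1 := step_star m n hm hmn hcop hcd hmin (cjIrr φ) ξ ψ
        (by rw [charDegree_cjIrr]; exact hφ) hξ hψ
      rw [hb ψ] at h1
      exact_mod_cast h1
    have hkey : ∀ ψ : IrrCharacter G,
        (if charDegree (ψ : G → ℂ) = n then (n : ℂ) else 0) *
          classInner ((φ : G → ℂ) * (ψ : G → ℂ)) (ξ : G → ℂ) =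
        ((b ψ * charDegree (ψ : G → ℂ) : ℕ) : ℂ) := by
      intro ψ
      by_cases hψ : charDegree (ψ : G → ℂ) = n
      · rw [if_pos hψ, hψ]
        have h3 : classInner ((φ : G → ℂ) * (ψ : G → ℂ)) (ξ : G → ℂ) =
            conj (classInner (((cjIrr φ : IrrCharacter G) : G → ℂ) * (ξ : G → ℂ))
              (ψ : G → ℂ)) := by
          rw [classInner_conj_symm, mul_comm (φ : G → ℂ), classInner_mul_shift]
          rfl
        rw [h3, hb ψ, Complex.conj_natCast]
        push_cast
        ring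
      · rw [if_neg hψ, hb0 ψ hψ]
        simp
    rw [Finset.sum_congr rfl (fun ψ _ => hkey ψ), ← Nat.cast_sum, ← hdeg]
    push_cast
    ring
  · rw [if_neg hξ, mul_zero]
    apply Finset.sum_eq_zero
    intro ψ _
    by_cases hψ : charDegree (ψ : G → ℂ) = n
    · rw [step_star m n hm hmn hcop hcd hmin φ ψ ξ hφ hψ hξ, mul_zero]
    · rw [if_neg hψ, zero_mul]

end Closure

section Main

variable {G : Type u} [Group G] [Fintype G]

/-- **Lemma B.** -/
theorem lemmaB (m n : ℕ) (hm : 1 < m) (hmn : m < n)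
    (hcop : Nat.Coprime m n)
    (hcd : ∀ χ : IrrCharacter G, charDegree (χ : G → ℂ) = 1 ∨
      charDegree (χ : G → ℂ) = m ∨ charDegree (χ : G → ℂ) = n)
    (hexm : ∃ χ : IrrCharacter G, charDegree (χ : G → ℂ) = m)
    (hexn : ∃ χ : IrrCharacter G, charDegree (χ : G → ℂ) = n)
    (hmin : ∀ L : Subgroup G, L.Normal → L ≠ ⊥ → commutator G ≤ L) : False := by
  classical
  obtain ⟨χ₀, hχ₀⟩ := hexm
  obtain ⟨ψ₀, hψ₀⟩ := hexn
  -- `ρ_Y` vanishes off `1`
  have hvan : ∀ g : G, g ≠ 1 → rhoY (G := G) n g = 0 := by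
    intro g hg
    have h1 := congrFun (mul_rhoY m n hm hmn hcop hcd hmin χ₀ (by rw [hχ₀]; omega)) g
    rw [Pi.mul_apply, Pi.smul_apply, smul_eq_mul, hχ₀] at h1
    have h2 : ((χ₀ : G → ℂ) g - (m : ℂ)) * rhoY (G := G) n g = 0 := by
      rw [sub_mul, h1, sub_self]
    rcases mul_eq_zero.mp h2 with h3 | h3
    · exfalso
      apply hg
      apply eq_one_of_apply_eq hmin χ₀ (by rw [hχ₀]; omega) g
      rw [IsCharacter.apply_one_eq_charDegree (IsIrrCharacter.isCharacter χ₀.2), hχ₀]
      exact sub_eq_zero.mp h3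
    · exact h3
  -- `ρ_Y(1) ≠ 0`
  have hone : rhoY (G := G) n 1 ≠ 0 := by
    have h1 : rhoY (G := G) n 1 =
        ((∑ ψ : IrrCharacter G, (if charDegree (ψ : G → ℂ) = n then n else 0) *
          charDegree (ψ : G → ℂ) : ℕ) : ℂ) := by
      unfold rhoY
      rw [Finset.sum_apply]
      push_cast
      apply Finset.sum_congr rfl
      intro ψ _
      rw [Pi.smul_apply, smul_eq_mul,
        IsCharacter.apply_one_eq_charDegree (IsIrrCharacter.isCharacter ψ.2)]
    rw [h1]
    have h2 : n * n ≤ ∑ ψ : IrrCharacter G, (if charDegree (ψ : G → ℂ) = n then n else 0) *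
        charDegree (ψ : G → ℂ) := by
      have h3 := Finset.single_le_sum (f := fun ψ : IrrCharacter G =>
        (if charDegree (ψ : G → ℂ) = n then n else 0) * charDegree (ψ : G → ℂ))
        (fun _ _ => Nat.zero_le _) (Finset.mem_univ ψ₀)
      simp only [hψ₀, if_true] at h3
      exact h3
    have h4 : 0 < n * n := by nlinarith
    exact_mod_cast (lt_of_lt_of_le h4 h2).ne'
  -- inner product with the trivial character
  set triv : IrrCharacter G := ⟨fun _ => 1, isIrrCharacter_one⟩ with htriv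
  have hdt : charDegree (triv : G → ℂ) = 1 := by
    apply Helper80.charDegree_natCast
    simp [htriv]
  have h1 := classInner_rhoY (G := G) n triv
  rw [if_neg (by rw [hdt]; omega)] at h1
  unfold classInner at h1
  rw [Finset.sum_eq_single (1 : G)] at h1
  · have h2 : (triv : G → ℂ) 1 = 1 := rfl
    rw [h2, map_one, mul_one] at h1
    rcases mul_eq_zero.mp h1 with h3 | h3
    · have : (Nat.card G : ℂ) ≠ 0 := by exact_mod_cast (Nat.card_pos (α := G)).ne'
      exact this (inv_eq_zero.mp h3)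
    · exact hone h3
  · intro g _ hg
    rw [hvan g hg, zero_mul]
  · intro h; exact absurd (Finset.mem_univ _) h

end Main

end Cfsg.Agent.Lib.Helper80.ThreeDeg
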