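import Mathlib
import Cfsg.Agent.Lib.Helper80.DG.FrobB
import Cfsg.Agent.Lib.Helper80.ItoMichler
import Cfsg.Agent.Lib.Helper81.IrrTwist
import Cfsg.Agent.Lib.Helper75.Monomial
import Cfsg.Agent.Lib.Helper77.Linear

/-!
# Three character degrees: Lemma B, part A (helper80)

Utilities on products of irreducible characters and the degree arithmetic.
-/

set_option autoImplicit false
set_option linter.unusedSectionVars false

namespace Cfsg.Agent.Lib.Helper80.ThreeDeg

open Cfsg
open Cfsg.Agent.Lib
open Cfsg.Agent.Lib.Helper78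
open scoped ComplexConjugate

universe u

section Util

variable {G : Type u} [Group G] [Fintype G]

/-- `⟨f g, h⟩ = ⟨f, conj(g) h⟩` -/
theorem classInner_mul_shift (f g h : G → ℂ) :
    classInner (f * g) h = classInner f (fun x => conj (g x) * h x) := by
  unfold classInner
  congr 1
  apply Finset.sum_congr rfl
  intro x _
  rw [Pi.mul_apply, map_mul, Complex.conj_conj]
  ring

/-- the complex conjugate of an irreducible character -/
noncomputable def cjIrr (χ : IrrCharacter G) : IrrCharacter G :=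
  ⟨fun g => conj ((χ : G → ℂ) g), Helper81.isIrrCharacter_conj χ.2⟩

theorem cjIrr_apply (χ : IrrCharacter G) (g : G) :
    ((cjIrr χ : IrrCharacter G) : G → ℂ) g = conj ((χ : G → ℂ) g) := rfl

theorem charDegree_cjIrr (χ : IrrCharacter G) :
    charDegree ((cjIrr χ : IrrCharacter G) : G → ℂ) = charDegree (χ : G → ℂ) := by
  apply Helper80.charDegree_natCast
  rw [cjIrr_apply, IsCharacter.apply_one_eq_charDegree (IsIrrCharacter.isCharacter χ.2)]
  simp

/-- the linear character attached to a homomorphism -/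
noncomputable def linIrr (mu : G →* ℂˣ) : IrrCharacter G :=
  ⟨Helper80.homFun mu, Helper77.isIrrCharacter_of_monoidHom mu⟩

theorem linIrr_coe (mu : G →* ℂˣ) : ((linIrr mu : IrrCharacter G) : G → ℂ) = Helper80.homFun mu := rfl

/-- twist of an irreducible character by a linear one -/
noncomputable def twist (χ : IrrCharacter G) (mu : G →* ℂˣ) : IrrCharacter G :=
  ⟨(χ : G → ℂ) * Helper80.homFun mu, Helper80.DG.isIrrCharacter_mul_homFun χ.2 mu⟩

theorem twist_coe (χ : IrrCharacter G) (mu : G →* ℂˣ) :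
    ((twist χ mu : IrrCharacter G) : G → ℂ) = (χ : G → ℂ) * Helper80.homFun mu := rfl

theorem charDegree_twist (χ : IrrCharacter G) (mu : G →* ℂˣ) :
    charDegree ((twist χ mu : IrrCharacter G) : G → ℂ) = charDegree (χ : G → ℂ) :=
  Helper80.DG.charDegree_mul_homFun _ mu

/-- every irreducible character of degree one comes from a homomorphism -/
theorem exists_hom_of_charDegree_eq_one (lam : IrrCharacter G)
    (h : charDegree (lam : G → ℂ) = 1) : ∃ mu : G →* ℂˣ, (lam : G → ℂ) = Helper80.homFun mu := by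
  have h1 : (lam : G → ℂ) 1 = 1 := by
    rw [IsCharacter.apply_one_eq_charDegree (IsIrrCharacter.isCharacter lam.2), h]
    simp
  obtain ⟨mu, hmu⟩ := Helper77.exists_monoidHom_of_degree_one (IsIrrCharacter.isCharacter lam.2) h1
  exact ⟨mu, funext hmu⟩

/-- a homomorphism to `ℂˣ` is trivial on the commutator subgroup -/
theorem homFun_eq_one_of_mem_commutator (mu : G →* ℂˣ) (x : G) (hx : x ∈ commutator G) :
    Helper80.homFun mu x = 1 := by
  have h1 : x ∈ mu.ker := Abelianization.commutator_subset_ker mu hx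
  rw [MonoidHom.mem_ker] at h1
  show ((mu x : ℂˣ) : ℂ) = 1
  rw [h1, Units.val_one]

/-- degree of a product of two irreducible characters -/
theorem charDegree_mul_irr (χ ψ : IrrCharacter G) :
    charDegree ((χ : G → ℂ) * (ψ : G → ℂ)) =
      charDegree (χ : G → ℂ) * charDegree (ψ : G → ℂ) := by
  apply Helper80.charDegree_natCast
  rw [Pi.mul_apply, IsCharacter.apply_one_eq_charDegree (IsIrrCharacter.isCharacter χ.2),
    IsCharacter.apply_one_eq_charDegree (IsIrrCharacter.isCharacter ψ.2)]
  push_cast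
  ring

/-- natural multiplicities and the degree formula -/
theorem exists_mult {Θ : G → ℂ} (hΘ : IsCharacter G Θ) :
    ∃ a : IrrCharacter G → ℕ, (∀ φ : IrrCharacter G, classInner Θ (φ : G → ℂ) = (a φ : ℂ)) ∧
      (Θ = ∑ φ : IrrCharacter G, (a φ : ℂ) • (φ : G → ℂ)) ∧
      charDegree Θ = ∑ φ : IrrCharacter G, a φ * charDegree (φ : G → ℂ) := by
  choose a ha using fun φ => IsCharacter.exists_nat_classInner hΘ φ
  have hsum : Θ = ∑ φ : IrrCharacter G, (a φ : ℂ) • (φ : G → ℂ) := by
    conv_lhs => rw [IsCharacter.eq_sum_irr hΘ]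
    exact Finset.sum_congr rfl (fun φ _ => by rw [ha φ])
  refine ⟨a, ha, hsum, ?_⟩
  apply Helper80.charDegree_natCast
  conv_lhs => rw [hsum]
  rw [Finset.sum_apply]
  push_cast
  apply Finset.sum_congr rfl
  intro φ _
  rw [Pi.smul_apply, smul_eq_mul,
    IsCharacter.apply_one_eq_charDegree (IsIrrCharacter.isCharacter φ.2)]

end Util

section Arith

/-- coprime degrees: `mn = Am + Bn` forces `(A,B) = (n,0)` or `(0,m)` -/
theorem arith_one (m n A B : ℕ) (hm : 0 < m) (hn : 0 < n) (hcop : Nat.Coprime m n)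
    (h : m * n = m * A + n * B) : (A = n ∧ B = 0) ∨ (A = 0 ∧ B = m) := by
  have h1 : m ∣ n * B := by
    have : m ∣ m * n - m * A := Nat.dvd_sub (Dvd.intro _ rfl) (Dvd.intro _ rfl)
    have h2 : n * B = m * n - m * A := by omega
    rw [h2]; exact this
  have h2 : m ∣ B := hcop.dvd_of_dvd_mul_left h1
  rcases Nat.eq_zero_or_pos B with hB | hB
  · left
    refine ⟨?_, hB⟩
    rw [hB, mul_zero, add_zero] at h
    exact (Nat.eq_of_mul_eq_mul_left hm h).symm
  · right
    have h3 : m ≤ B := Nat.le_of_dvd hB h2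
    have h4 : n * m ≤ n * B := Nat.mul_le_mul_left n h3
    have h5 : m * A = 0 := by nlinarith
    have h6 : A = 0 := by
      rcases Nat.mul_eq_zero.mp h5 with h | h
      · omega
      · exact h
    refine ⟨h6, ?_⟩
    rw [h6, mul_zero, zero_add, mul_comm m n] at h
    exact (Nat.eq_of_mul_eq_mul_left hn h).symm

/-- `m² = Am + Bn` with `m < n` coprime forces `B = 0` -/
theorem arith_two (m n A B : ℕ) (hm : 0 < m) (hmn : m < n) (hcop : Nat.Coprime m n)
    (h : m * m = m * A + n * B) : B = 0 := by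
  have h1 : m ∣ n * B := by
    have : m ∣ m * m - m * A := Nat.dvd_sub (Dvd.intro _ rfl) (Dvd.intro _ rfl)
    have h2 : n * B = m * m - m * A := by omega
    rw [h2]; exact this
  have h2 : m ∣ B := hcop.dvd_of_dvd_mul_left h1
  by_contra hB
  have hB' : 0 < B := Nat.pos_of_ne_zero hB
  have h3 : m ≤ B := Nat.le_of_dvd hB' h2
  have h4 : n * m ≤ n * B := Nat.mul_le_mul_left n h3
  nlinarith

end Arith

end Cfsg.Agent.Lib.Helper80.ThreeDeg
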