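import Cfsg.Agent.Lib.Helper80.ThreeDeg.LemmaBA

/-!
# Three character degrees: Lemma B, part B (helper80)

Steps (1) and (2): products of irreducible characters of coprime degrees `m < n`.
-/

set_option autoImplicit false
set_option linter.unusedSectionVars false

namespace Cfsg.Agent.Lib.Helper80.ThreeDeg

open Cfsg
open Cfsg.Agent.Lib
open Cfsg.Agent.Lib.Helper78
open scoped ComplexConjugate

universe u

section Steps

variable {G : Type u} [Group G] [Fintype G] (m n : ℕ)

/-- splitting the degree sum according to the three degrees -/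
theorem degree_split (hm : 1 < m) (hmn : m < n)
    (hcd : ∀ χ : IrrCharacter G, charDegree (χ : G → ℂ) = 1 ∨
      charDegree (χ : G → ℂ) = m ∨ charDegree (χ : G → ℂ) = n)
    (a : IrrCharacter G → ℕ) :
    ∑ φ : IrrCharacter G, a φ * charDegree (φ : G → ℂ) =
      (∑ φ : IrrCharacter G, if charDegree (φ : G → ℂ) = 1 then a φ else 0) +
      m * (∑ φ : IrrCharacter G, if charDegree (φ : G → ℂ) = m then a φ else 0) +
      n * (∑ φ : IrrCharacter G, if charDegree (φ : G → ℂ) = n then a φ else 0) := by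
  rw [Finset.mul_sum, Finset.mul_sum, ← Finset.sum_add_distrib, ← Finset.sum_add_distrib]
  apply Finset.sum_congr rfl
  intro φ _
  have h1m : (1 : ℕ) ≠ m := by omega
  have h1n : (1 : ℕ) ≠ n := by omega
  have hmn' : m ≠ n := by omega
  rcases hcd φ with h | h | h
  · rw [h]; simp [h1m, h1n]
  · rw [h]; simp [h1m.symm, hmn']; ring
  · rw [h]; simp [h1n.symm, hmn'.symm]; ring

theorem sum_ite_eq_zero {ι : Type*} [Fintype ι] (P : ι → Prop) [DecidablePred P] (a : ι → ℕ)
    (h : (∑ i : ι, if P i then a i else 0) = 0) (i : ι) (hi : P i) : a i = 0 := by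
  have h1 := (Finset.sum_eq_zero_iff.mp h) i (Finset.mem_univ i)
  rw [if_pos hi] at h1
  exact h1

theorem sum_ite_eq_zero_of {ι : Type*} [Fintype ι] (P : ι → Prop) [DecidablePred P] (a : ι → ℕ)
    (h : ∀ i, P i → a i = 0) : (∑ i : ι, if P i then a i else 0) = 0 := by
  apply Finset.sum_eq_zero
  intro i _
  split_ifs with hi
  · exact h i hi
  · rfl

/-- **Step (1)**: `χ ψ` is of type `m` or of type `n`. -/
theorem step_one (hm : 1 < m) (hmn : m < n) (hcop : Nat.Coprime m n)
    (hcd : ∀ χ : IrrCharacter G, charDegree (χ : G → ℂ) = 1 ∨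
      charDegree (χ : G → ℂ) = m ∨ charDegree (χ : G → ℂ) = n)
    (χ ψ : IrrCharacter G) (hχ : charDegree (χ : G → ℂ) = m) (hψ : charDegree (ψ : G → ℂ) = n) :
    (∀ φ : IrrCharacter G, charDegree (φ : G → ℂ) ≠ m →
        classInner ((χ : G → ℂ) * (ψ : G → ℂ)) (φ : G → ℂ) = 0) ∨
    (∀ φ : IrrCharacter G, charDegree (φ : G → ℂ) ≠ n →
        classInner ((χ : G → ℂ) * (ψ : G → ℂ)) (φ : G → ℂ) = 0) := by
  classical
  have hΘ : IsCharacter G ((χ : G → ℂ) * (ψ : G → ℂ)) :=
    Helper80.isCharacter_mul (IsIrrCharacter.isCharacter χ.2) (IsIrrCharacter.isCharacter ψ.2)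
  obtain ⟨a, ha, -, hdeg⟩ := exists_mult hΘ
  -- no linear constituents
  have hlin : ∀ φ : IrrCharacter G, charDegree (φ : G → ℂ) = 1 → a φ = 0 := by
    intro φ hφ
    obtain ⟨mu, hmu⟩ := exists_hom_of_charDegree_eq_one φ hφ
    have h1 : classInner ((χ : G → ℂ) * (ψ : G → ℂ)) (φ : G → ℂ) = 0 := by
      rw [classInner_mul_shift]
      have h2 : (fun x => conj ((ψ : G → ℂ) x) * (φ : G → ℂ) x) =
          ((twist (cjIrr ψ) mu : IrrCharacter G) : G → ℂ) := by
        funext x
        rw [twist_coe, Pi.mul_apply, cjIrr_apply, hmu]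
      rw [h2]
      apply classInner_irr_ne χ.2 (twist (cjIrr ψ) mu).2
      intro heq
      have h3 : charDegree (χ : G → ℂ) = charDegree ((twist (cjIrr ψ) mu : IrrCharacter G) : G → ℂ) := by
        rw [← heq]
      rw [charDegree_twist, charDegree_cjIrr, hχ, hψ] at h3
      omega
    rw [ha φ] at h1
    exact_mod_cast h1
  rw [charDegree_mul_irr, hχ, hψ, degree_split m n hm hmn hcd a,
    sum_ite_eq_zero_of _ a hlin, zero_add] at hdeg
  rcases arith_one m n _ _ (by omega) (by omega) hcop hdeg with ⟨-, hB⟩ | ⟨hA, -⟩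
  · left
    intro φ hφ
    rw [ha φ]
    rcases hcd φ with h | h | h
    · rw [hlin φ h]; simp
    · exact absurd h hφ
    · rw [sum_ite_eq_zero _ a hB φ h]; simp
  · right
    intro φ hφ
    rw [ha φ]
    rcases hcd φ with h | h | h
    · rw [hlin φ h]; simp
    · rw [sum_ite_eq_zero _ a hA φ h]; simp
    · exact absurd h hφ

/-- **Step (2)**: for `χ, χ'` of degree `m` in different orbits of the linear characters,
`conj(χ) χ'` has only constituents of degree `m`. -/
theorem step_two (hm : 1 < m) (hmn : m < n) (hcop : Nat.Coprime m n)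
    (hcd : ∀ χ : IrrCharacter G, charDegree (χ : G → ℂ) = 1 ∨
      charDegree (χ : G → ℂ) = m ∨ charDegree (χ : G → ℂ) = n)
    (χ χ' : IrrCharacter G) (hχ : charDegree (χ : G → ℂ) = m)
    (hχ' : charDegree (χ' : G → ℂ) = m)
    (hne : ∀ mu : G →* ℂˣ, (χ' : G → ℂ) ≠ (χ : G → ℂ) * Helper80.homFun mu) :
    ∀ φ : IrrCharacter G, charDegree (φ : G → ℂ) ≠ m →
      classInner (((cjIrr χ : IrrCharacter G) : G → ℂ) * (χ' : G → ℂ)) (φ : G → ℂ) = 0 := by
  classical
  have hΘ : IsCharacter G (((cjIrr χ : IrrCharacter G) : G → ℂ) * (χ' : G → ℂ)) :=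
    Helper80.isCharacter_mul (IsIrrCharacter.isCharacter (cjIrr χ).2)
      (IsIrrCharacter.isCharacter χ'.2)
  obtain ⟨a, ha, -, hdeg⟩ := exists_mult hΘ
  have hlin : ∀ φ : IrrCharacter G, charDegree (φ : G → ℂ) = 1 → a φ = 0 := by
    intro φ hφ
    obtain ⟨mu, hmu⟩ := exists_hom_of_charDegree_eq_one φ hφ
    have h1 : classInner (((cjIrr χ : IrrCharacter G) : G → ℂ) * (χ' : G → ℂ)) (φ : G → ℂ) = 0 := by
      rw [mul_comm, classInner_mul_shift]
      have h2 : (fun x => conj (((cjIrr χ : IrrCharacter G) : G → ℂ) x) * (φ : G → ℂ) x) =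
          ((twist χ mu : IrrCharacter G) : G → ℂ) := by
        funext x
        rw [twist_coe, Pi.mul_apply, cjIrr_apply, Complex.conj_conj, hmu]
      rw [h2]
      apply classInner_irr_ne χ'.2 (twist χ mu).2
      intro heq
      exact hne mu (by rw [heq, twist_coe])
    rw [ha φ] at h1
    exact_mod_cast h1
  rw [charDegree_mul_irr, charDegree_cjIrr, hχ, hχ', degree_split m n hm hmn hcd a,
    sum_ite_eq_zero_of _ a hlin, zero_add] at hdeg
  have hB := arith_two m n _ _ (by omega) hmn hcop hdeg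
  intro φ hφ
  rw [ha φ]
  rcases hcd φ with h | h | h
  · rw [hlin φ h]; simp
  · exact absurd h hφ
  · rw [sum_ite_eq_zero _ a hB φ h]; simp

end Steps

end Cfsg.Agent.Lib.Helper80.ThreeDeg
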